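import Groth.Agent.Lib.Special15.Main
import Groth.Agent.Lib.RankOne16.Centre
import Groth.Agent.Lib.SolvSpec15.Solvable

/-!
# Torsors over a scheme under a special group of the ground field
-/

set_option autoImplicit false
set_option linter.style.haveILetI false
set_option backward.isDefEq.respectTransparency false
set_option backward.isDefEq.respectTransparency.types false
set_option maxHeartbeats 1000000
set_option maxSynthPendingDepth 3

universe u

open CategoryTheory CategoryTheory.Limits MonoidalCategory CartesianMonoidalCategory MonObj AlgebraicGeometry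

noncomputable section

namespace Groth.Agent.Special15

open SolvSpec15

variable {S Y : Scheme.{u}} (q : Y ⟶ S) {L : Over S} [GrpObj L] {P : Over Y}

/-- An action of a base change restricts to an action of the group on the total space over the base. -/
theorem exists_mapAction (a : AlgGrp.Action (Red.bc q L) P) :
    ∃ b : AlgGrp.Action L ((Over.map q).obj P), ∀ (A : Over Y) (g : (Over.map q).obj A ⟶ L) (x : A ⟶ P),
      (lift g ((Over.map q).map x) ≫ b.act).left = (lift ((Over.mapPullbackAdj q).homEquiv A L g) x ≫ a.act).left := by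
  let adj := Over.mapPullbackAdj q
  let Z : Over S := L ⊗ (Over.map q).obj P
  let ZY : Over Y := Over.mk ((snd L ((Over.map q).obj P)).left ≫ P.hom)
  let e : (Over.map q).obj ZY ≅ Z := Over.isoMk (Iso.refl _) (by
    have := Over.w (snd L ((Over.map q).obj P))
    simpa [Z, ZY, Over.map] using this.symm)
  let xZ : ZY ⟶ P := Over.homMk (snd L ((Over.map q).obj P)).left rfl
  let act : L ⊗ (Over.map q).obj P ⟶ (Over.map q).obj P := e.inv ≫ (Over.map q).map (lift (adj.homEquiv ZY L (e.hom ≫ fst L ((Over.map q).obj P))) xZ ≫ a.act)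
  have key : ∀ (A : Over Y) (g : (Over.map q).obj A ⟶ L) (x : A ⟶ P),
      lift g ((Over.map q).map x) ≫ act = (Over.map q).map (lift (adj.homEquiv A L g) x ≫ a.act) := fun A g x => by
    let w : A ⟶ ZY := Over.homMk (lift g ((Over.map q).map x)).left (by
      show (lift g ((Over.map q).map x)).left ≫ (snd L ((Over.map q).obj P)).left ≫ P.hom = A.hom
      rw [← Category.assoc, ← Over.comp_left, lift_snd]
      exact Over.w x)
    have hw : (Over.map q).map w ≫ e.hom = lift g ((Over.map q).map x) := Over.OverMorphism.ext (Category.comp_id _)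
    rw [← hw, Category.assoc]
    show (Over.map q).map w ≫ e.hom ≫ e.inv ≫ _ = _
    rw [e.hom_inv_id_assoc, ← (Over.map q).map_comp, comp_lift_assoc]
    have hx : w ≫ xZ = x := Over.OverMorphism.ext (by
      show (lift g ((Over.map q).map x)).left ≫ (snd L ((Over.map q).obj P)).left = x.left
      rw [← Over.comp_left, lift_snd]
      rfl)
    rw [hx, ← adj.homEquiv_naturality_left, ← Category.assoc, hw, lift_fst]
  clear_value act
  have lifts : ∀ {T : Over S} (x : T ⟶ (Over.map q).obj P), ∃ (A : Over Y) (i : T ≅ (Over.map q).obj A) (x' : A ⟶ P), x = i.hom ≫ (Over.map q).map x' :=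
    fun {T} x => ⟨Over.mk (x.left ≫ P.hom), Over.isoMk (Iso.refl _) (by
      have := Over.w x
      simpa [Over.map] using this), Over.homMk x.left rfl, Over.OverMorphism.ext (Category.id_comp _).symm⟩
  refine ⟨⟨act, ?_, ?_⟩, fun A g x => congrArg (·.left) (key A g x)⟩
  · have h1 : ∀ {T : Over S} (x : T ⟶ (Over.map q).obj P), lift (1 : T ⟶ L) x ≫ act = x := fun {T} x => by
      obtain ⟨A, i, x', rfl⟩ := lifts x
      rw [← MonObj.comp_one i.hom, ← comp_lift, Category.assoc, key]
      have hu : adj.homEquiv A L 1 = 1 := by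
        refine mul_left_cancel (a := adj.homEquiv A L 1) ?_
        rw [← RankOne16.homEquiv_mul, _root_.mul_one, _root_.mul_one]
      rw [hu, AlgGrp.Action.lift_one_act]
    have := h1 (λ_ ((Over.map q).obj P)).hom
    refine Eq.trans ?_ this
    congr 1
  · have h2 : ∀ {T : Over S} (g h : T ⟶ L) (x : T ⟶ (Over.map q).obj P),
        lift (g * h) x ≫ act = lift g (lift h x ≫ act) ≫ act := fun {T} g h x => by
      obtain ⟨A, i, x', rfl⟩ := lifts x
      obtain ⟨g, rfl⟩ : ∃ g', g = i.hom ≫ g' := ⟨i.inv ≫ g, by simp⟩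
      obtain ⟨h, rfl⟩ : ∃ h', h = i.hom ≫ h' := ⟨i.inv ≫ h, by simp⟩
      rw [← MonObj.comp_mul, ← comp_lift, Category.assoc, key, ← comp_lift, Category.assoc, key, ← comp_lift,
        Category.assoc, key, RankOne16.homEquiv_mul, AlgGrp.Action.lift_mul_act]
    have := h2 (fst (L ⊗ L) ((Over.map q).obj P) ≫ fst L L) (fst (L ⊗ L) ((Over.map q).obj P) ≫ snd L L) (snd _ _)
    have e1 : (μ[L] ▷ (Over.map q).obj P) = lift ((fst (L ⊗ L) ((Over.map q).obj P) ≫ fst L L) * (fst (L ⊗ L) ((Over.map q).obj P) ≫ snd L L)) (snd _ _) := by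
      rw [← MonObj.comp_mul, Hom.mul_def, lift_fst_snd, Category.id_comp]
      ext <;> simp
    rw [e1, this]
    rw [← Category.assoc (α_ L L ((Over.map q).obj P)).hom]
    congr 1
    refine CartesianMonoidalCategory.hom_ext _ _ ?_ ?_
    · simp only [lift_fst, Category.assoc, whiskerLeft_fst, associator_hom_fst]
    · simp only [lift_snd, Category.assoc, whiskerLeft_snd]
      rw [← Category.assoc]
      congr 1
      refine CartesianMonoidalCategory.hom_ext _ _ ?_ ?_
      · simp only [lift_fst, Category.assoc, associator_hom_snd_fst]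
      · simp only [lift_snd, Category.assoc, associator_hom_snd_snd]

variable {k : Type u} [Field k]

/-- A torsor over a scheme under a special group of the ground field has sections locally. -/
theorem exists_section_of_torsor {L : Over (Spec (CommRingCat.of k))} [GrpObj L] (hL : Special k L)
    {X Y : Scheme.{u}} (qY : Y ⟶ Spec (CommRingCat.of k)) (π : X ⟶ Y) [Flat π] [Surjective π] [QuasiCompact π]
    (a : AlgGrp.Action (Red.bc qY L) (Over.mk π))
    (htors : IsIso (lift a.act (snd (Red.bc qY L) (Over.mk π)))) (y : Y) :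
    ∃ U : Y.Opens, y ∈ U ∧ ∃ s : (↑U : Scheme.{u}) ⟶ X, s ≫ π = U.ι := by
  haveI := htors
  obtain ⟨b, hb⟩ := exists_mapAction qY a
  let φ : (Over.map qY).obj (Over.mk π) ⟶ Over.mk qY := Over.homMk π rfl
  let adj := Over.mapPullbackAdj qY
  have lifts : ∀ {T : Over (Spec (CommRingCat.of k))} (x : T ⟶ (Over.map qY).obj (Over.mk π)),
      ∃ (A : Over Y) (i : T ≅ (Over.map qY).obj A) (x' : A ⟶ (Over.mk π)), x = i.hom ≫ (Over.map qY).map x' :=
    fun {T} x => ⟨Over.mk (x.left ≫ π), Over.isoMk (Iso.refl _) (by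
      have := Over.w x
      simpa [Over.map] using this), Over.homMk x.left rfl, Over.OverMorphism.ext (Category.id_comp _).symm⟩
  have key : ∀ (A : Over Y) (g : (Over.map qY).obj A ⟶ L) (x : A ⟶ (Over.mk π)),
      lift g ((Over.map qY).map x) ≫ b.act = (Over.map qY).map (lift (adj.homEquiv A L g) x ≫ a.act) :=
    fun A g x => Over.OverMorphism.ext (hb A g x)
  have hinv : b.act ≫ φ = snd L _ ≫ φ := by
    have h : ∀ {T} (g : T ⟶ L) (x : T ⟶ (Over.map qY).obj (Over.mk π)), lift g x ≫ b.act ≫ φ = x ≫ φ := fun {T} g x => by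
      obtain ⟨A, i, x', rfl⟩ := lifts x
      obtain ⟨g, rfl⟩ : ∃ g', g = i.hom ≫ g' := ⟨i.inv ≫ g, by simp⟩
      rw [← comp_lift, Category.assoc, reassoc_of% key, Category.assoc]
      congr 1
      exact Over.OverMorphism.ext ((Over.w (lift (adj.homEquiv A L g) x' ≫ a.act)).trans (Over.w x').symm)
    simpa using h (fst L _) (snd L _)
  have hcart : IsPullback b.act (snd L _) φ φ := by
    refine IsPullback.mk' hinv (fun T u v e1 e2 => ?_) fun T x y hxy => ?_
    · obtain ⟨A, i, x', hx⟩ := lifts (u ≫ snd L _)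
      obtain ⟨g, hg⟩ : ∃ g', u ≫ fst L _ = i.hom ≫ g' := ⟨i.inv ≫ u ≫ fst L _, by simp⟩
      obtain ⟨h, hh⟩ : ∃ h', v ≫ fst L _ = i.hom ≫ h' := ⟨i.inv ≫ v ≫ fst L _, by simp⟩
      have hu : u = i.hom ≫ lift g ((Over.map qY).map x') :=
        CartesianMonoidalCategory.hom_ext _ _ (by simp [hg]) (by simp [hx])
      have hv : v = i.hom ≫ lift h ((Over.map qY).map x') :=
        CartesianMonoidalCategory.hom_ext _ _ (by simp [hh]) (by simp [← e2, hx])
      rw [hu, hv, Category.assoc, Category.assoc, key, key, cancel_epi] at e1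
      have e3 : lift (adj.homEquiv A L g) x' ≫ a.act = lift (adj.homEquiv A L h) x' ≫ a.act :=
        Over.OverMorphism.ext (congrArg (·.left) e1)
      have e4 : lift (adj.homEquiv A L g) x' = lift (adj.homEquiv A L h) x' := by
        refine (cancel_mono (lift a.act (snd (Red.bc qY L) (Over.mk π)))).1 ?_
        rw [comp_lift, comp_lift, e3, lift_snd, lift_snd]
      have e5 : g = h := (adj.homEquiv A L).injective (by simpa only [lift_fst] using congrArg (· ≫ fst _ _) e4)
      rw [hu, hv, e5]
    · obtain ⟨A, i, y', rfl⟩ := lifts y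
      have hA : (i.inv ≫ x).left ≫ π = A.hom := by
        have e : (i.inv ≫ x) ≫ φ = (Over.map qY).map y' ≫ φ := by
          rw [Category.assoc, hxy, ← Category.assoc, i.inv_hom_id_assoc]
        exact (congrArg (·.left) e).trans (Over.w y')
      let x' : A ⟶ (Over.mk π) := Over.homMk (i.inv ≫ x).left hA
      let n := lift x' y' ≫ inv (lift a.act (snd (Red.bc qY L) (Over.mk π)))
      have hn : n ≫ lift a.act (snd (Red.bc qY L) (Over.mk π)) = lift x' y' := by simp only [n, Category.assoc, IsIso.inv_hom_id, Category.comp_id]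
      have hn1 : n ≫ a.act = x' := by
        calc n ≫ a.act = (n ≫ lift a.act (snd (Red.bc qY L) (Over.mk π))) ≫ fst _ _ := by simp
          _ = x' := by rw [hn, lift_fst]
      have hn2 : n ≫ snd _ _ = y' := by
        calc n ≫ snd _ _ = (n ≫ lift a.act (snd (Red.bc qY L) (Over.mk π))) ≫ snd _ _ := by simp
          _ = y' := by rw [hn, lift_snd]
      refine ⟨i.hom ≫ lift ((adj.homEquiv A L).symm (n ≫ fst _ _)) ((Over.map qY).map y'), ?_, by simp⟩
      rw [Category.assoc, key, Equiv.apply_symm_apply]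
      have : lift (n ≫ fst _ _) y' = n := CartesianMonoidalCategory.hom_ext _ _ (by simp) (by rw [lift_snd, hn2])
      rw [this, hn1]
      have e : (Over.map qY).map x' = i.inv ≫ x := Over.OverMorphism.ext rfl
      rw [e, i.hom_inv_id_assoc]
  have hloc : NonAbH1.IsLocallyTrivialFor Scheme.fpqcPrecoverage (Over.mk φ.left : Over Y) := by
    refine ⟨Presieve.singleton π, Scheme.Hom.singleton_mem_fpqcPrecoverage π, ?_⟩
    intro S' g hg
    cases hg
    exact ⟨𝟙 X, Category.id_comp _⟩
  obtain ⟨R, hR, hs⟩ := hL _ _ b φ hcart hloc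
  obtain ⟨σ, Z, f, rfl⟩ := Presieve.exists_eq_ofArrows R
  obtain ⟨hR₁, hR₂⟩ := (Scheme.ofArrows_mem_precoverage_iff @IsOpenImmersion).1 hR
  obtain ⟨i, w, hw⟩ := hR₁ y
  haveI : IsOpenImmersion (f i) := hR₂ i
  obtain ⟨s, hs'⟩ := hs (f i) (Presieve.ofArrows.mk i)
  refine ⟨(f i).opensRange, ⟨w, hw⟩, (f i).isoOpensRange.inv ≫ s, ?_⟩
  have h1 : s ≫ π = f i := hs'
  rw [Category.assoc, h1, Scheme.Hom.isoOpensRange_inv_comp]

end Groth.Agent.Special15
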